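import Cfsg.Agent.Lib.CosetEnum.Defs

/-! Generated table data. -/

set_option autoImplicit false
set_option maxRecDepth 20000

namespace Cfsg.Lib.CosetEnum.Fi23Sub_bcde

/-- Table data. -/
def tabC_0_0 : Tab :=
  (.node 6 (.node 3 (.node 1 (.leaf 0x4000000000000000a) (.node 1 (.leaf 0x4000000000000000b) (.leaf 0x4000000000000000c))) (.node 1 (.leaf 0x1000000000000000100000200000000006) (.node 1 (.leaf 0x10000040000100001c0000200000400005) (.leaf 0x1000000000000000140000200000000008)))) (.node 3 (.node 1 (.leaf 0x100000c0000200000c000020000200000300000800004) (.node 1 (.leaf 0x100000800001000008000010000240000300000400007) (.leaf 0x100000c0000b00000c0000100000c00005))) (.node 1 (.leaf 0x100000400000000004000000000180000300000000009) (.node 1 (.leaf 0x10000080000d0000080000100000800008) (.leaf 0x100000c0000e00000c0000100000c00006)))))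

/-- Table data. -/
def tabC_0 : Tab :=
  tabC_0_0

end Cfsg.Lib.CosetEnum.Fi23Sub_bcde
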